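import Mathlib
/-!
Lifting along nil ideals in smooth morphisms.
-/

set_option autoImplicit false

universe u

open CategoryTheory CategoryTheory.Limits AlgebraicGeometry

namespace Groth.Agent.NilLift

/-- Sections of smooth algebras lift along nil ideals. -/
theorem exists_lift {A B S : Type u} [CommRing A] [CommRing B] [CommRing S] [Algebra A B] [Algebra A S]
    [Algebra.Smooth A S] (I : Ideal B) (hI : I ≤ nilradical B) (σ : S →ₐ[A] B ⧸ I) :
    ∃ τ : S →ₐ[A] B, (Ideal.Quotient.mkₐ A I).comp τ = σ := by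
  classical
  obtain ⟨n, π, hπ, s, hs⟩ := (inferInstance : Algebra.FinitePresentation A S).out
  choose b hb using fun k : Fin n => Ideal.Quotient.mk_surjective (σ (π (MvPolynomial.X k)))
  let ev : MvPolynomial (Fin n) A →ₐ[A] B := MvPolynomial.aeval b
  have hev : (Ideal.Quotient.mkₐ A I).comp ev = σ.comp π := by
    ext k
    simp [ev, hb]
  let J : Ideal B := Ideal.span ((s.image ev : Finset B) : Set B)
  have hJI : J ≤ I := Ideal.span_le.2 fun x hx => by
    obtain ⟨f, hf, rfl⟩ := Finset.mem_image.1 (Finset.mem_coe.1 hx)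
    have h0 : f ∈ RingHom.ker π.toRingHom := hs ▸ Ideal.subset_span hf
    have := AlgHom.congr_fun hev f
    rw [AlgHom.comp_apply, AlgHom.comp_apply, show π f = 0 from h0, map_zero] at this
    exact Ideal.Quotient.eq_zero_iff_mem.1 this
  have hJn : IsNilpotent J :=
    (Ideal.FG.isNilpotent_iff_le_nilradical ⟨_, rfl⟩).2 (hJI.trans hI)
  have hker : ∀ f, f ∈ RingHom.ker π.toRingHom → (Ideal.Quotient.mkₐ A J).comp ev f = 0 := by
    intro f hf
    rw [← hs] at hf
    induction hf using Submodule.span_induction with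
    | mem x hx =>
      exact Ideal.Quotient.eq_zero_iff_mem.2 (Ideal.subset_span (Finset.mem_coe.2 (Finset.mem_image_of_mem _ hx)))
    | zero => exact map_zero _
    | add x y _ _ hx hy => rw [map_add, hx, hy, add_zero]
    | smul a x _ hx => rw [smul_eq_mul, map_mul, hx, mul_zero]
  let σ' : S →ₐ[A] B ⧸ J :=
    (Ideal.Quotient.liftₐ _ ((Ideal.Quotient.mkₐ A J).comp ev) hker).comp
      (Ideal.quotientKerAlgEquivOfSurjective hπ).symm.toAlgHom
  have hσ' : ∀ f, σ' (π f) = Ideal.Quotient.mk J (ev f) := fun f => by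
    have : (Ideal.quotientKerAlgEquivOfSurjective hπ).symm (π f) = Ideal.Quotient.mk _ f := by
      rw [AlgEquiv.symm_apply_eq]; rfl
    show Ideal.Quotient.liftₐ _ _ hker ((Ideal.quotientKerAlgEquivOfSurjective hπ).symm (π f)) = _
    rw [this]; rfl
  obtain ⟨τ, hτ⟩ := Algebra.FormallySmooth.exists_lift J hJn σ'
  refine ⟨τ, AlgHom.ext fun x => ?_⟩
  obtain ⟨f, rfl⟩ := hπ x
  have h1 := AlgHom.congr_fun hτ (π f)
  rw [AlgHom.comp_apply, Ideal.Quotient.mkₐ_eq_mk, hσ' f, Ideal.Quotient.mk_eq_mk_iff_sub_mem] at h1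
  have h2 : Ideal.Quotient.mk I (τ (π f)) = Ideal.Quotient.mk I (ev f) :=
    (Ideal.Quotient.mk_eq_mk_iff_sub_mem _ _).2 (hJI h1)
  rw [AlgHom.comp_apply, Ideal.Quotient.mkₐ_eq_mk, h2]
  exact AlgHom.congr_fun hev f

theorem surjective_quotient {R : Type u} [CommRing R] {I : Ideal R} (hI : I ≤ nilradical R) :
    Function.Surjective (Spec.map (CommRingCat.ofHom (Ideal.Quotient.mk I))) := fun p => by
  have : p ∈ Set.range (PrimeSpectrum.comap (Ideal.Quotient.mk I)) := by
    rw [range_comap_of_surjective _ _ Ideal.Quotient.mk_surjective, Ideal.mk_ker]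
    exact hI.trans (nilradical_le_prime p.asIdeal)
  exact this

/-- A surjective closed immersion of affine spectra has nil kernel. -/
theorem le_nilradical_of_surjective {R : Type u} [CommRing R] {I : Ideal R}
    (h : Function.Surjective (Spec.map (CommRingCat.ofHom (Ideal.Quotient.mk I)))) : I ≤ nilradical R := by
  rw [nilradical_eq_sInf]
  refine le_sInf fun p hp => ?_
  obtain ⟨q, hq⟩ := h ⟨p, hp⟩
  have : (⟨p, hp⟩ : PrimeSpectrum R) ∈ Set.range (PrimeSpectrum.comap (Ideal.Quotient.mk I)) := ⟨q, hq⟩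
  rw [range_comap_of_surjective _ _ Ideal.Quotient.mk_surjective, Ideal.mk_ker] at this
  exact this

theorem map_le_nilradical {R B : Type u} [CommRing R] [CommRing B] (φ : R →+* B) {I : Ideal R}
    (hI : I ≤ nilradical R) : I.map φ ≤ nilradical B :=
  Ideal.map_le_iff_le_comap.2 fun _ hx => IsNilpotent.map (hI hx) φ

/-- In a smooth morphism of schemes a map from a nil thickened point lifts Zariski locally. -/
theorem exists_lift_basicOpen {U V : Scheme.{u}} (h : U ⟶ V) [Smooth h] {R : Type u} [CommRing R]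
    {I : Ideal R} (hI : I ≤ nilradical R) (u : Spec (CommRingCat.of (R ⧸ I)) ⟶ U)
    (v : Spec (CommRingCat.of R) ⟶ V) (w : u ≫ h = Spec.map (CommRingCat.ofHom (Ideal.Quotient.mk I)) ≫ v)
    (x : PrimeSpectrum R) :
    ∃ g : R, g ∉ x.asIdeal ∧ ∃ l : Spec (CommRingCat.of (Localization.Away g)) ⟶ U,
      l ≫ h = Spec.map (CommRingCat.ofHom (algebraMap R (Localization.Away g))) ≫ v ∧
      Spec.map (CommRingCat.ofHom (Ideal.Quotient.mk (I.map (algebraMap R (Localization.Away g))))) ≫ l =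
        Spec.map (CommRingCat.ofHom (Ideal.quotientMap (I.map (algebraMap R (Localization.Away g)))
          (algebraMap R (Localization.Away g)) Ideal.le_comap_map)) ≫ u := by
  let P := pullback h v
  let q : P ⟶ Spec (CommRingCat.of R) := pullback.snd h v
  haveI : Smooth q := MorphismProperty.pullback_snd _ _ inferInstance
  let s₀ : Spec (CommRingCat.of (R ⧸ I)) ⟶ P :=
    pullback.lift u (Spec.map (CommRingCat.ofHom (Ideal.Quotient.mk I))) w
  obtain ⟨x₀, hx₀⟩ := surjective_quotient hI x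
  obtain ⟨O, hO, hxO⟩ : ∃ O : P.Opens, IsAffineOpen O ∧ s₀ x₀ ∈ O := by
    obtain ⟨_, ⟨O, hO, rfl⟩, hxO, -⟩ :=
      P.isBasis_affineOpens.exists_subset_of_mem_open (Set.mem_univ (s₀ x₀)) isOpen_univ
    exact ⟨O, hO, hxO⟩
  have hhomeo : IsHomeomorph (Spec.map (CommRingCat.ofHom (Ideal.Quotient.mk I))) := by
    haveI : IsClosedImmersion (Spec.map (CommRingCat.ofHom (Ideal.Quotient.mk I))) :=
      IsClosedImmersion.spec_of_surjective _ Ideal.Quotient.mk_surjective
    exact isHomeomorph_iff_isEmbedding_surjective.mpr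
      ⟨(Spec.map (CommRingCat.ofHom (Ideal.Quotient.mk I))).isEmbedding, surjective_quotient hI⟩
  have hopen : IsOpen (Spec.map (CommRingCat.ofHom (Ideal.Quotient.mk I)) '' (s₀ ⁻¹' (O : Set P))) :=
    hhomeo.isOpenMap _ (O.2.preimage s₀.continuous)
  obtain ⟨_, ⟨g, rfl⟩, hxg, hgO⟩ := PrimeSpectrum.isTopologicalBasis_basic_opens.exists_subset_of_mem_open
    (show x ∈ Spec.map (CommRingCat.ofHom (Ideal.Quotient.mk I)) '' (s₀ ⁻¹' (O : Set P)) from ⟨x₀, hxO, hx₀⟩) hopen
  refine ⟨g, hxg, ?_⟩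
  let B := Localization.Away g
  let J : Ideal B := I.map (algebraMap R B)
  let cI : Spec (CommRingCat.of (B ⧸ J)) ⟶ Spec (CommRingCat.of (R ⧸ I)) :=
    Spec.map (CommRingCat.ofHom (Ideal.quotientMap J (algebraMap R B) Ideal.le_comap_map))
  have hcI : cI ≫ Spec.map (CommRingCat.ofHom (Ideal.Quotient.mk I)) =
      Spec.map (CommRingCat.ofHom (Ideal.Quotient.mk J)) ≫ Spec.map (CommRingCat.ofHom (algebraMap R B)) := by
    simp only [cI, ← Spec.map_comp, ← CommRingCat.ofHom_comp]
    congr 2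
  have hrange : Set.range (cI ≫ s₀) ⊆ Set.range O.ι := by
    rintro _ ⟨z, rfl⟩
    rw [Scheme.Opens.range_ι]
    have hz : Spec.map (CommRingCat.ofHom (Ideal.Quotient.mk I)) (cI z) ∈
        (PrimeSpectrum.basicOpen g : Set (PrimeSpectrum R)) := by
      rw [← Scheme.Hom.comp_apply, hcI, Scheme.Hom.comp_apply, ← PrimeSpectrum.localization_away_comap_range B g]
      exact ⟨_, rfl⟩
    obtain ⟨y, hy, hye⟩ := hgO hz
    rw [Scheme.Hom.comp_apply, ← hhomeo.injective hye]
    exact hy
  let s₁ := IsOpenImmersion.lift O.ι (cI ≫ s₀) hrange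
  haveI : IsAffine O.toScheme := hO
  obtain ⟨φ, hφ⟩ := Spec.map_surjective (O.toScheme.isoSpec.inv ≫ O.ι ≫ q)
  obtain ⟨σ, hσ⟩ := Spec.map_surjective (s₁ ≫ O.toScheme.isoSpec.hom)
  have hsm : φ.hom.Smooth := by
    have : Smooth (Spec.map φ) := by rw [hφ]; infer_instance
    exact HasRingHomProperty.Spec_iff.1 this
  letI : Algebra R Γ(O.toScheme, ⊤) := φ.hom.toAlgebra
  haveI : Algebra.Smooth R Γ(O.toScheme, ⊤) := hsm
  have hσφ : φ ≫ σ = CommRingCat.ofHom (algebraMap R B) ≫ CommRingCat.ofHom (Ideal.Quotient.mk J) := by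
    apply Spec.map_injective
    rw [Spec.map_comp, Spec.map_comp, hσ, hφ, Category.assoc, Iso.hom_inv_id_assoc,
      IsOpenImmersion.lift_fac_assoc, Category.assoc, pullback.lift_snd]
    exact hcI
  obtain ⟨τ, hτ⟩ := exists_lift (A := R) (S := Γ(O.toScheme, ⊤)) J (map_le_nilradical _ hI)
    { σ.hom with commutes' := fun r => congrArg (fun k => k.hom r) hσφ }
  have hτ' : CommRingCat.ofHom τ.toRingHom ≫ CommRingCat.ofHom (Ideal.Quotient.mk J) = σ :=
    CommRingCat.hom_ext (RingHom.ext fun a => AlgHom.congr_fun hτ a)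
  have hτq : Spec.map (CommRingCat.ofHom τ.toRingHom) ≫ O.toScheme.isoSpec.inv ≫ O.ι ≫ q =
      Spec.map (CommRingCat.ofHom (algebraMap R B)) := by
    rw [← hφ, ← Spec.map_comp]
    exact congrArg Spec.map (CommRingCat.hom_ext (RingHom.ext fun r => τ.commutes r))
  refine ⟨Spec.map (CommRingCat.ofHom τ.toRingHom) ≫ O.toScheme.isoSpec.inv ≫ O.ι ≫ pullback.fst h v,
    ?_, ?_⟩
  · simp only [Category.assoc, pullback.condition]
    rw [← hτq]
    simp only [Category.assoc, q]
  · show Spec.map (CommRingCat.ofHom (Ideal.Quotient.mk J)) ≫ _ = cI ≫ u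
    rw [← Spec.map_comp_assoc, hτ', hσ, Category.assoc, Iso.hom_inv_id_assoc,
      IsOpenImmersion.lift_fac_assoc, Category.assoc, pullback.lift_fst]

end Groth.Agent.NilLift
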